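import Groth.Agent.Rat20Dense.Basic
import Groth.Agent.DescentBase.ClosureRange
import Mathlib.AlgebraicGeometry.Morphisms.FlatMono

/-!
# Flat morphisms which are isomorphisms over a schematically dense open

A flat monomorphism locally of finite type which is an isomorphism over a quasi-compact
schematically dense open is an open immersion.
-/

set_option autoImplicit false
set_option backward.isDefEq.respectTransparency.types false
universe u

open CategoryTheory CategoryTheory.Limits AlgebraicGeometry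

namespace Groth.FlatmorDense

/-- If every element of a finitely generated algebra is a fraction from the base near a prime,
then some localization of the algebra at that prime is a quotient of a localization of the base. -/
theorem exists_localizations_surjective {A B : Type u} [CommRing A] [CommRing B] (φ : A →+* B)
    (hft : φ.FiniteType) (q : Ideal B) [q.IsPrime]
    (h : ∀ b, ∃ a s t, φ s ∉ q ∧ t ∉ q ∧ t * (φ s * b - φ a) = 0) :
    ∃ (σ : A) (t : B), φ σ ∉ q ∧ t ∉ q ∧ φ σ ∣ t ∧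
      ∀ (A' B' : Type u) [CommRing A'] [CommRing B'] (iA : A →+* A') (iB : B →+* B')
        (φ' : A' →+* B'), φ'.comp iA = iB.comp φ → IsUnit (iA σ) → IsUnit (iB t) →
        (∀ z : B', ∃ b n, z * iB t ^ n = iB b) → Function.Surjective φ' := by
  classical
  algebraize [φ]
  have : Algebra.FiniteType A B := hft
  obtain ⟨gen, hgen⟩ := Algebra.FiniteType.out (R := A) (A := B)
  choose a s t hs ht e using h
  set s₀ := ∏ b ∈ gen, s b with hs₀
  set t₀ := (∏ b ∈ gen, t b) * φ s₀ with ht₀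
  have hs₀q : φ s₀ ∉ q := fun h => by
    rw [hs₀, map_prod, Ideal.IsPrime.prod_mem_iff] at h
    obtain ⟨b, -, hb⟩ := h
    exact hs b hb
  have ht₀q : t₀ ∉ q := fun h => (Ideal.IsPrime.mem_or_mem ‹_› h).elim (fun h => by
    obtain ⟨b, -, hb⟩ := (Ideal.IsPrime.prod_mem_iff (p := q)).1 h
    exact ht b hb) hs₀q
  have hall : ∀ b, ∃ c n, t₀ ^ n * (φ s₀ ^ n * b - φ c) = 0 := fun b => by
    have hb : b ∈ Algebra.adjoin A (gen : Set B) := hgen ▸ trivial
    induction hb using Algebra.adjoin_induction with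
    | mem x hx =>
      refine ⟨(∏ b ∈ gen.erase x, s b) * a x, 1, ?_⟩
      rw [pow_one, pow_one, ht₀, hs₀, ← Finset.prod_erase_mul _ t hx,
        ← Finset.prod_erase_mul _ s hx]
      simp only [map_mul]
      linear_combination ((∏ b ∈ gen.erase x, t b) * φ (∏ b ∈ gen.erase x, s b) *
        φ (∏ b ∈ gen.erase x, s b) * φ (s x)) * e x
    | algebraMap r => exact ⟨r, 0, by simp [RingHom.algebraMap_toAlgebra]⟩
    | add x y _ _ hx hy =>
      obtain ⟨c, n, hc⟩ := hx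
      obtain ⟨d, m, hd⟩ := hy
      refine ⟨s₀ ^ m * c + s₀ ^ n * d, n + m, ?_⟩
      simp only [map_add, map_mul, map_pow, pow_add]
      linear_combination (t₀ ^ m * φ s₀ ^ m) * hc + (t₀ ^ n * φ s₀ ^ n) * hd
    | mul x y _ _ hx hy =>
      obtain ⟨c, n, hc⟩ := hx
      obtain ⟨d, m, hd⟩ := hy
      refine ⟨c * d, n + m, ?_⟩
      simp only [map_mul, pow_add]
      linear_combination (t₀ ^ m * φ s₀ ^ m * y) * hc + (t₀ ^ n * φ c) * hd
  obtain ⟨a₀, n₀, ha₀⟩ := hall t₀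
  have ha₀q : φ a₀ ∉ q := fun h => by
    have h0 : t₀ ^ n₀ * (φ s₀ ^ n₀ * t₀) ∈ q := by
      rw [sub_eq_zero.1 (by rw [← mul_sub, ha₀] : t₀ ^ n₀ * (φ s₀ ^ n₀ * t₀) - t₀ ^ n₀ * φ a₀ = 0)]
      exact q.mul_mem_left _ h
    exact (Ideal.IsPrime.mul_notMem ‹_› (fun h => ht₀q (Ideal.IsPrime.mem_of_pow_mem ‹_› _ h))
      (Ideal.IsPrime.mul_notMem ‹_› (fun h => hs₀q (Ideal.IsPrime.mem_of_pow_mem ‹_› _ h)) ht₀q)) h0
  have hσq : φ (s₀ * a₀) ∉ q := by
    rw [map_mul]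
    exact Ideal.IsPrime.mul_notMem ‹_› hs₀q ha₀q
  refine ⟨s₀ * a₀, t₀ * φ (s₀ * a₀), hσq, Ideal.IsPrime.mul_notMem ‹_› ht₀q hσq, dvd_mul_left _ _,
    fun A' B' _ _ iA iB φ' comm hσ hτ hz => ?_⟩
  have hc : ∀ x, φ' (iA x) = iB (φ x) := fun x => RingHom.congr_fun comm x
  rw [map_mul, IsUnit.mul_iff] at hσ
  rw [map_mul, IsUnit.mul_iff] at hτ
  obtain ⟨hus, hua⟩ := hσ
  obtain ⟨hvt, -⟩ := hτ
  -- every element of `B` becomes a fraction from the base
  have hB : ∀ b, ∀ c n, t₀ ^ n * (φ s₀ ^ n * b - φ c) = 0 →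
      iB b = φ' (↑((hus.pow n).unit⁻¹) * iA c) := fun b c n hcn => by
    have h1 : iB (φ (s₀ ^ n)) * iB b = iB (φ c) := by
      rw [← map_mul]
      refine (hvt.pow n).mul_left_cancel ?_
      rw [← map_pow, ← map_mul, ← map_mul, map_pow φ]
      exact congrArg iB (sub_eq_zero.1 (by rw [← mul_sub, hcn]))
    rw [map_mul, hc, ← h1, ← hc, ← mul_assoc, ← map_mul, map_pow, IsUnit.val_inv_mul, map_one,
      one_mul]
  have hu : IsUnit (↑((hus.pow n₀).unit⁻¹) * iA a₀) := (Units.isUnit _).mul hua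
  intro z
  obtain ⟨b, n, hb⟩ := hz z
  obtain ⟨c, m, hcm⟩ := hall b
  have htot : iB (t₀ * φ (s₀ * a₀)) =
      φ' ((↑((hus.pow n₀).unit⁻¹) * iA a₀) * iA (s₀ * a₀)) := by
    rw [map_mul iB, map_mul φ', ← hB t₀ a₀ n₀ ha₀, hc]
  have hu' : IsUnit ((↑((hus.pow n₀).unit⁻¹) * iA a₀) * iA (s₀ * a₀)) :=
    hu.mul (by rw [map_mul]; exact hus.mul hua)
  refine ⟨↑((hus.pow m).unit⁻¹) * iA c * ↑((hu'.pow n).unit⁻¹), ?_⟩
  rw [map_mul, ← hB b c m hcm, ← hb, htot, ← map_pow, mul_assoc, ← map_mul,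
    IsUnit.mul_val_inv, map_one, mul_one]

variable {X Y : Scheme.{u}} (g : X ⟶ Y)

theorem isIso_stalkMap_of_flat_mono [Flat g] [Mono g] (x : X) : IsIso (g.stalkMap x) := by
  have hflat : Flat (Spec.map (g.stalkMap x)) :=
    (HasRingHomProperty.Spec_iff (P := @Flat)).2 (Flat.stalkMap g x)
  have hsurj : Surjective (Spec.map (g.stalkMap x)) := by
    constructor
    algebraize [(g.stalkMap x).hom]
    have : Module.FaithfullyFlat (Y.presheaf.stalk (g x)) (X.presheaf.stalk x) :=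
      @Module.FaithfullyFlat.of_flat_of_isLocalHom _ _ _ _ _ _ _
        (Flat.stalkMap g x) (g.toLRSHom.prop x)
    exact PrimeSpectrum.comap_surjective_of_faithfullyFlat
  have : Mono (X.fromSpecStalk x ≫ g) := mono_comp _ _
  have : Mono (Spec.map (g.stalkMap x)) :=
    mono_of_mono_fac (Scheme.SpecMap_stalkMap_fromSpecStalk g (x := x))
  have := Flat.isIso_of_surjective_of_mono (Spec.map (g.stalkMap x))
  exact (ConcreteCategory.isIso_iff_bijective _).2 (isIso_SpecMap_iff.1 this)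

/-- A morphism locally of finite type is a closed immersion near a point with surjective stalk map. -/
theorem exists_isClosedImmersion_resLE [LocallyOfFiniteType g] (x : X)
    (hx : Function.Surjective (g.stalkMap x)) :
    ∃ (V : Y.Opens) (U : X.Opens) (e : U ≤ g ⁻¹ᵁ V), x ∈ U ∧ IsAffineOpen V ∧ IsAffineOpen U ∧
      IsClosedImmersion (g.resLE V U e) := by
  obtain ⟨V₀, hV₀, hxV₀, -⟩ := TopologicalSpace.Opens.isBasis_iff_nbhd.mp Y.isBasis_affineOpens
    (TopologicalSpace.Opens.mem_top (g x))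
  obtain ⟨U₀, hU₀, hxU₀, e₀⟩ := TopologicalSpace.Opens.isBasis_iff_nbhd.mp X.isBasis_affineOpens
    (show x ∈ g ⁻¹ᵁ V₀ from hxV₀)
  let φ := (g.appLE V₀ U₀ e₀).hom
  have hq : ∀ b, b ∉ (hU₀.primeIdealOf ⟨x, hxU₀⟩).asIdeal ↔
      IsUnit (X.presheaf.germ U₀ x hxU₀ b) := fun b => by
    let := X.presheaf.algebra_section_stalk ⟨x, hxU₀⟩
    have := hU₀.isLocalization_stalk ⟨x, hxU₀⟩
    exact (IsLocalization.AtPrime.isUnit_to_map_iff (X.presheaf.stalk x)
      (hU₀.primeIdealOf ⟨x, hxU₀⟩).asIdeal b).symm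
  have hgerm : ∀ a, g.stalkMap x (Y.presheaf.germ V₀ (g x) hxV₀ a) =
      X.presheaf.germ U₀ x hxU₀ (φ a) := fun a => by
    rw [Scheme.Hom.germ_stalkMap_apply]
    exact (X.presheaf.germ_res_apply (homOfLE e₀) x hxU₀ _).symm
  have hfrac : ∀ b, ∃ a s t, φ s ∉ (hU₀.primeIdealOf ⟨x, hxU₀⟩).asIdeal ∧
      t ∉ (hU₀.primeIdealOf ⟨x, hxU₀⟩).asIdeal ∧ t * (φ s * b - φ a) = 0 := fun b => by
    obtain ⟨w, hw⟩ := hx (X.presheaf.germ U₀ x hxU₀ b)
    let := Y.presheaf.algebra_section_stalk ⟨g x, hxV₀⟩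
    have := hV₀.isLocalization_stalk ⟨g x, hxV₀⟩
    obtain ⟨a, ⟨s, hs⟩, hws⟩ := IsLocalization.exists_mk'_eq
      (hV₀.primeIdealOf ⟨g x, hxV₀⟩).asIdeal.primeCompl w
    have hws' : w * Y.presheaf.germ V₀ (g x) hxV₀ s = Y.presheaf.germ V₀ (g x) hxV₀ a := by
      rw [← hws]
      exact IsLocalization.mk'_spec (Y.presheaf.stalk (g x)) a ⟨s, hs⟩
    have h1 : X.presheaf.germ U₀ x hxU₀ (φ s * b) = X.presheaf.germ U₀ x hxU₀ (φ a) := by
      rw [map_mul, ← hgerm, ← hgerm, ← hw, ← map_mul, mul_comm, hws']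
    let := X.presheaf.algebra_section_stalk ⟨x, hxU₀⟩
    have := hU₀.isLocalization_stalk ⟨x, hxU₀⟩
    obtain ⟨⟨t, ht⟩, e⟩ := (IsLocalization.eq_iff_exists
      (hU₀.primeIdealOf ⟨x, hxU₀⟩).asIdeal.primeCompl (X.presheaf.stalk x)).1 h1
    refine ⟨a, s, t, (hq _).2 ?_, ht, by rw [mul_sub, sub_eq_zero]; exact e⟩
    rw [← hgerm]
    exact ((IsLocalization.AtPrime.isUnit_to_map_iff (Y.presheaf.stalk (g x))
      (hV₀.primeIdealOf ⟨g x, hxV₀⟩).asIdeal s).2 hs).map (g.stalkMap x).hom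
  obtain ⟨σ, t, -, ht, hdvd, H⟩ := exists_localizations_surjective φ
    (LocallyOfFiniteType.finiteType_appLE g hV₀ hU₀ e₀) _ hfrac
  have e : X.basicOpen t ≤ g ⁻¹ᵁ Y.basicOpen σ := by
    obtain ⟨c, hc⟩ := hdvd
    rw [hc, Scheme.basicOpen_mul]
    refine inf_le_left.trans (le_of_eq_of_le (Scheme.basicOpen_appLE g U₀ V₀ e₀ σ) ?_)
    exact inf_le_right
  refine ⟨Y.basicOpen σ, X.basicOpen t, e, (Scheme.mem_basicOpen _ _ x hxU₀).2 ((hq t).1 ht),
    hV₀.basicOpen σ, hU₀.basicOpen t, ?_⟩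
  have : IsAffine (Y.basicOpen σ).toScheme := hV₀.basicOpen σ
  have : IsAffine (X.basicOpen t).toScheme := hU₀.basicOpen t
  refine IsClosedImmersion.of_surjective_of_isAffine _ ?_
  rw [Scheme.Hom.appTop, Scheme.Hom.resLE_app_top]
  have hsurj : Function.Surjective (g.appLE (Y.basicOpen σ) (X.basicOpen t) e) := by
    let := hU₀.isLocalization_basicOpen t
    refine H _ _ (algebraMap _ Γ(Y, Y.basicOpen σ)) (algebraMap _ Γ(X, X.basicOpen t))
      (g.appLE (Y.basicOpen σ) (X.basicOpen t) e).hom ?_ ?_ ?_ fun z => ?_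
    · ext a
      show (Y.presheaf.map _ ≫ g.appLE (Y.basicOpen σ) _ e) a =
        (g.appLE V₀ U₀ e₀ ≫ X.presheaf.map _) a
      rw [Scheme.Hom.map_appLE, Scheme.Hom.appLE_map]
    · exact RingedSpace.isUnit_res_basicOpen _ σ
    · exact RingedSpace.isUnit_res_basicOpen _ t
    · obtain ⟨⟨b, ⟨_, n, rfl⟩⟩, hb⟩ := IsLocalization.surj (Submonoid.powers t) z
      exact ⟨b, n, by simpa using hb⟩
  simpa using! (ConcreteCategory.bijective_of_isIso (X.basicOpen t).topIso.inv).2.comp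
    (hsurj.comp (ConcreteCategory.bijective_of_isIso (Y.basicOpen σ).topIso.hom).2)

/-- A flat monomorphism locally of finite type which is an isomorphism over a quasi-compact
schematically dense open is an open immersion. -/
theorem isOpenImmersion_of_flat_mono [Flat g] [Mono g] [LocallyOfFiniteType g] (W : Y.Opens)
    [QuasiCompact W.ι] (hW : CInt.IsSchematicallyDense W) [IsIso (g ∣_ W)] : IsOpenImmersion g := by
  have hst := isIso_stalkMap_of_flat_mono g
  suffices H : ∀ x, ∃ O : X.Opens, x ∈ O ∧ IsOpenImmersion (O.ι ≫ g) by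
    refine IsOpenImmersion.iff_isIso_stalkMap.2
      ⟨.of_continuous_injective_isOpenMap g.continuous g.injective fun s hs => ?_, hst⟩
    refine isOpen_iff_forall_mem_open.2 ?_
    rintro _ ⟨x, hxs, rfl⟩
    obtain ⟨O, hxO, hO⟩ := H x
    refine ⟨(O.ι ≫ g) '' (O.ι ⁻¹' s), ?_, hO.base_open.isOpenMap _ (hs.preimage O.ι.continuous),
      ⟨⟨x, hxO⟩, hxs, rfl⟩⟩
    rintro _ ⟨y, hy, rfl⟩
    exact ⟨O.ι y, hy, rfl⟩
  intro x
  obtain ⟨V, U, e, hxU, hV, hU, hc⟩ := exists_isClosedImmersion_resLE g x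
    ((ConcreteCategory.isIso_iff_bijective _).1 (hst x)).2
  set c := g.resLE V U e with hcdef
  have : IsAffine V.toScheme := hV
  have hflat : Flat c := by
    rw [hcdef]; dsimp [Scheme.Hom.resLE]; infer_instance
  let W' : V.toScheme.Opens := V.ι ⁻¹ᵁ W
  have hqcW' : QuasiCompact W'.ι :=
    MorphismProperty.of_isPullback (isPullback_morphismRestrict V.ι W) ‹QuasiCompact W.ι›
  have hW' : CInt.IsSchematicallyDense W' := Groth.Rat20Dense.dense_preimage_of_flat V.ι W hW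
  have hW'c : IsCompact (W' : Set V.toScheme) := by
    have := QuasiCompact.compactSpace_of_compactSpace W'.ι
    simpa using isCompact_range W'.ι.continuous
  -- the part of `W'` in the image of `c` is open
  have hopen : IsOpen (Set.range c ∩ W') := by
    have : Set.range c ∩ W' = V.ι ⁻¹' (g '' ((U : Set X) ∩ g ⁻¹' W)) := by
      ext v
      constructor
      · rintro ⟨⟨u, rfl⟩, hu⟩
        have he : V.ι (c u) = g (U.ι u) := by
          rw [← Scheme.Hom.comp_apply, ← Scheme.Hom.comp_apply, hcdef, Scheme.Hom.resLE_comp_ι]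
        exact ⟨U.ι u, ⟨u.2, show g (U.ι u) ∈ W from he ▸ hu⟩, he.symm⟩
      · rintro ⟨u, ⟨huU, huW⟩, he⟩
        refine ⟨⟨⟨u, huU⟩, V.ι.injective ?_⟩, show V.ι v ∈ W from he ▸ huW⟩
        rw [← he, ← Scheme.Hom.comp_apply, hcdef, Scheme.Hom.resLE_comp_ι]
        rfl
    rw [this]
    refine IsOpen.preimage V.ι.continuous ?_
    have h2 : g '' ((U : Set X) ∩ g ⁻¹' W) =
        W.ι '' ((g ∣_ W) '' ((g ⁻¹ᵁ W).ι ⁻¹' U)) := by
      rw [← Set.image_comp, ← TopCat.coe_comp, ← Scheme.Hom.comp_base, morphismRestrict_ι,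
        Scheme.Hom.comp_base, TopCat.coe_comp, Set.image_comp, Set.image_preimage_eq_inter_range,
        Scheme.Opens.range_ι]
      rfl
    rw [h2]
    exact W.ι.isOpenEmbedding.isOpenMap _ ((g ∣_ W).isOpenEmbedding.isOpenMap _
      (U.2.preimage (g ⁻¹ᵁ W).ι.continuous))
  let C : V.toScheme.Opens := ⟨W' \ Set.range c, W'.2.sdiff c.isClosedEmbedding.isClosed_range⟩
  have hC : IsCompact (C : Set V.toScheme) := by
    have : (C : Set V.toScheme) = (W' : Set V.toScheme) \ (Set.range c ∩ W') :=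
      Set.ext fun v => ⟨fun ⟨a, b⟩ => ⟨a, fun h => b h.1⟩, fun ⟨a, b⟩ => ⟨a, fun h => b ⟨h, a⟩⟩⟩
    rw [this]
    exact hW'c.diff hopen
  let x' : U.toScheme := ⟨x, hxU⟩
  have hx' : c x' ∉ closure (C : Set V.toScheme) := by
    intro hmem
    have : CompactSpace C.toScheme := isCompact_iff_compactSpace.1 hC
    have : QuasiCompact C.ι := (HasAffineProperty.iff_of_isAffine (P := @QuasiCompact)).2 ‹_›
    rw [← C.range_ι] at hmem
    obtain ⟨η, hη⟩ := Groth.DescentBase.exists_specializes_of_mem_closure_range C.ι hmem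
    obtain ⟨u, -, hu⟩ := Flat.generalizingMap c hη
    exact η.2.2 ⟨u, hu⟩
  obtain ⟨(V₁ : V.toScheme.Opens), hV₁, hxV₁, hV₁C⟩ := TopologicalSpace.Opens.isBasis_iff_nbhd.mp
    V.toScheme.isBasis_affineOpens (show c x' ∈ (⟨_, isClosed_closure.isOpen_compl⟩ :
      V.toScheme.Opens) from hx')
  set c₁ := c ∣_ V₁ with hc₁
  have : IsAffine V₁.toScheme := hV₁
  let W₁ : V₁.toScheme.Opens := V₁.ι ⁻¹ᵁ W'
  have hqcW₁ : QuasiCompact W₁.ι :=
    MorphismProperty.of_isPullback (isPullback_morphismRestrict V₁.ι W') hqcW'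
  have hW₁ : CInt.IsSchematicallyDense W₁ := Groth.Rat20Dense.dense_preimage_of_flat V₁.ι W' hW'
  have : IsSchemeTheoreticallyDominant W₁.ι :=
    Groth.GrpschAbsch.isSchemeTheoreticallyDominant_ι W₁ hW₁
  have hsurj : Surjective (c₁ ∣_ W₁) := by
    constructor
    intro v
    have hv : V₁.ι (W₁.ι v) ∈ W' := v.2
    have hv' : V₁.ι (W₁.ι v) ∈ Set.range c := by
      by_contra h
      exact hV₁C (W₁.ι v).2 (subset_closure ⟨hv, h⟩)
    obtain ⟨u, hu⟩ := hv'
    obtain ⟨u₁, -, hu₁⟩ :=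
      Scheme.exists_preimage_of_isPullback (isPullback_morphismRestrict c V₁).flip u _ hu
    obtain ⟨u₂, -, hu₂⟩ :=
      Scheme.exists_preimage_of_isPullback (isPullback_morphismRestrict c₁ W₁).flip _ v hu₁
    exact ⟨u₂, hu₂⟩
  have := Flat.isIso_of_surjective_of_mono (c₁ ∣_ W₁)
  have hk : c₁.ker = ⊥ := by
    rw [← le_bot_iff, ← W₁.ι.ker_eq_bot,
      show W₁.ι = (inv (c₁ ∣_ W₁) ≫ (c₁ ⁻¹ᵁ W₁).ι) ≫ c₁ by
        rw [Category.assoc, ← morphismRestrict_ι, IsIso.inv_hom_id_assoc]]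
    exact Scheme.Hom.le_ker_comp _ c₁
  have : IsIso c₁ := IsClosedImmersion.isIso_iff_ker_eq_bot.mpr hk
  refine ⟨U.ι ''ᵁ (c ⁻¹ᵁ V₁), ⟨x', hxV₁, rfl⟩, ?_⟩
  have heq : (U.ι ''ᵁ (c ⁻¹ᵁ V₁)).ι ≫ g =
      (U.ι.isoImage (c ⁻¹ᵁ V₁)).inv ≫ c₁ ≫ V₁.ι ≫ V.ι := by
    rw [Iso.eq_inv_comp, Scheme.Hom.isoImage_hom_ι_assoc, morphismRestrict_ι_assoc, hcdef,
      Scheme.Hom.resLE_comp_ι]
  rw [heq]
  infer_instance

/-- A separated flat morphism locally of finite type which is an isomorphism over a quasi-compact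
schematically dense open is an open immersion. -/
theorem isOpenImmersion_of_flat_separated [IsSeparated g] [Flat g] [LocallyOfFiniteType g]
    (W : Y.Opens) [QuasiCompact W.ι] (hW : CInt.IsSchematicallyDense W) [IsIso (g ∣_ W)] :
    IsOpenImmersion g := by
  let π := pullback.fst g g ≫ g
  have := Groth.GrpschAbsch.isSchemeTheoreticallyDominant_ι _
    (Groth.Rat20Dense.dense_preimage_of_flat π W hW)
  have h : pullback.fst g g = pullback.snd g g := by
    refine Groth.GrpschAbsch.ext_of_isSchemeTheoreticallyDominant g pullback.condition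
      (π ⁻¹ᵁ W).ι ?_
    have h₁ : Set.range ((π ⁻¹ᵁ W).ι ≫ pullback.fst g g) ⊆ Set.range (g ⁻¹ᵁ W).ι := by
      rintro _ ⟨z, rfl⟩
      rw [Scheme.Opens.range_ι]
      exact z.2
    have h₂ : Set.range ((π ⁻¹ᵁ W).ι ≫ pullback.snd g g) ⊆ Set.range (g ⁻¹ᵁ W).ι := by
      rintro _ ⟨z, rfl⟩
      rw [Scheme.Opens.range_ι]
      show g (pullback.snd g g ((π ⁻¹ᵁ W).ι z)) ∈ W
      rw [← Scheme.Hom.comp_apply, ← pullback.condition]
      exact z.2
    have h₃ : IsOpenImmersion.lift _ _ h₁ = IsOpenImmersion.lift _ _ h₂ := by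
      rw [← cancel_mono (g ∣_ W), ← cancel_mono W.ι]
      simp [pullback.condition]
    rw [← IsOpenImmersion.lift_fac _ _ h₁, ← IsOpenImmersion.lift_fac _ _ h₂, h₃]
  have : Mono g := ⟨fun a b hab => by
    rw [← pullback.lift_fst a b hab, h, pullback.lift_snd]⟩
  exact isOpenImmersion_of_flat_mono g W hW

end Groth.FlatmorDense
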